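import Mathlib
import Cfsg.Agent.Lib.AbelianMaximal.Essential
import Cfsg.Agent.Lib.Fusion87.Stabilizer
import Cfsg.Agent.Lib.PGroup.Frattini

/-!
An essential subgroup has no invariant maximal subgroup when its Frattini quotient has order `p²`.
-/

set_option autoImplicit false
set_option linter.unusedSectionVars false

namespace Cfsg.Agent.Lib.RankTwoAut

open Subgroup

variable {p : ℕ} [hp : Fact p.Prime]

section group

variable {G : Type*} [Group G] [Finite G]

/-- Automorphisms trivial on the Frattini quotient of a `p`-group form a `p`-group. -/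
theorem isPGroup_of_trivial_on_frattini (hG : IsPGroup p G) (K : Subgroup (MulAut G))
    (hK : ∀ α ∈ K, ∀ x : G, x⁻¹ * α x ∈ frattini G) : IsPGroup p K := by
  have : Finite (MulAut G) := Finite.of_injective (fun α : MulAut G => (α : G → G))
    DFunLike.coe_injective
  obtain ⟨n, hn⟩ : ∃ n, Nat.card K = p ^ n := by
    refine ⟨(Nat.card K).primeFactorsList.length, Nat.eq_prime_pow_of_unique_prime_dvd
      Nat.card_pos.ne' fun {q} hq hqd => ?_⟩
    by_contra hqp
    haveI := Fact.mk hq
    obtain ⟨b, hb⟩ := exists_prime_orderOf_dvd_card' q hqd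
    have hQ : IsPGroup q (zpowers (b : MulAut G)) := IsPGroup.of_card (n := 1)
      (by rw [Nat.card_zpowers, Subgroup.orderOf_coe, hb, pow_one])
    let F : Subgroup G :=
      { carrier := {x | (b : MulAut G) x = x}
        one_mem' := map_one _
        mul_mem' := fun {x y} hx hy => by simp only [Set.mem_setOf_eq] at *; rw [map_mul, hx, hy]
        inv_mem' := fun {x} hx => by simp only [Set.mem_setOf_eq] at *; rw [map_inv, hx] }
    have hF : F ⊔ frattini G = ⊤ := by
      refine eq_top_iff.2 fun x _ => ?_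
      set Q := zpowers (b : MulAut G)
      let X := {y : G // x⁻¹ * y ∈ frattini G}
      have hstab : ∀ (c : MulAut G), c ∈ Q → ∀ y : G, x⁻¹ * y ∈ frattini G →
          x⁻¹ * c y ∈ frattini G := by
        intro c hc y hy
        have hcK : c ∈ K := zpowers_le.2 b.2 hc
        have h1 := (frattini G).mul_mem hy (hK c hcK y)
        rwa [mul_assoc, mul_inv_cancel_left] at h1
      letI : MulAction Q X :=
        { smul := fun c y => ⟨(c : MulAut G) y.1, hstab _ c.2 _ y.2⟩
          one_smul := fun y => Subtype.ext rfl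
          mul_smul := fun c d y => Subtype.ext rfl }
      have hX : Nat.card X = Nat.card (frattini G) := Nat.card_congr
        { toFun := fun y => ⟨x⁻¹ * y.1, y.2⟩
          invFun := fun f => ⟨x * f.1, by rw [inv_mul_cancel_left]; exact f.2⟩
          left_inv := fun y => Subtype.ext (mul_inv_cancel_left _ _)
          right_inv := fun f => Subtype.ext (inv_mul_cancel_left _ _) }
      obtain ⟨⟨y, hy⟩, hyfix⟩ := hQ.nonempty_fixed_point_of_prime_not_dvd_card X (by
        rw [hX]
        obtain ⟨k, hk⟩ := IsPGroup.iff_card.1 (hG.to_subgroup (frattini G))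
        rw [hk]
        exact fun hd => hqp ((Nat.prime_dvd_prime_iff_eq hq hp.out).1 (hq.dvd_of_dvd_pow hd)))
      have hyF : y ∈ F := congrArg Subtype.val (hyfix ⟨b, mem_zpowers _⟩)
      rw [show x = y * (x⁻¹ * y)⁻¹ by group]
      exact mul_mem (mem_sup_left hyF) (mem_sup_right (inv_mem hy))
    have hFt := frattini_nongenerating hF
    have hb1 : b = 1 := Subtype.ext (MulEquiv.ext fun x => (hFt ▸ mem_top x : x ∈ F))
    rw [hb1, orderOf_one] at hb
    exact hq.ne_one hb.symm
  exact IsPGroup.of_card hn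

/-- A `p`-element acts trivially on an invariant section of order at most `p`. -/
theorem step_trivial {W V : Subgroup G} [W.Normal] (hWV : W ≤ V) (hrel : W.relIndex V ∣ p)
    {a : MulAut G} {k : ℕ} (hk : a ^ p ^ k = 1) (hW : ∀ w ∈ W, a w ∈ W) (hV : ∀ v ∈ V, a v ∈ V)
    {v : G} (hv : v ∈ V) : v⁻¹ * a v ∈ W := by
  set f := QuotientGroup.mk' W
  have hker : ∀ u, f u = 1 ↔ u ∈ W := fun u => QuotientGroup.eq_one_iff u
  by_cases hvW : v ∈ W
  · exact W.mul_mem (W.inv_mem hvW) (hW v hvW)
  have hcard : Nat.card (V.map f) = p := by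
    have h1 : Nat.card (V.map f) = W.relIndex V := by
      have e : (f.comp V.subtype).range = V.map f := by
        rw [MonoidHom.range_comp, range_subtype]
      have e' : (f.comp V.subtype).ker = W.subgroupOf V := by
        rw [← MonoidHom.comap_ker, QuotientGroup.ker_mk']; rfl
      rw [← e, ← index_ker, e']
      rfl
    rw [h1]
    exact ((Nat.dvd_prime hp.out).1 hrel).resolve_left fun e => hvW (relIndex_eq_one.1 e hv)
  have hfv : f v ≠ 1 := fun e => hvW ((hker v).1 e)
  set x : V.map f := ⟨f v, mem_map_of_mem f hv⟩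
  obtain ⟨r, hr⟩ : (⟨f (a v), mem_map_of_mem f (hV v hv)⟩ : V.map f) ∈ zpowers x :=
    mem_zpowers_of_prime_card hcard fun e => hfv (congrArg Subtype.val e)
  have hr' : f (a v) = f v ^ r := by simpa [x] using (congrArg Subtype.val hr).symm
  have hjr : ∀ j : ℕ, f ((a ^ j) v) = f v ^ (r ^ j) := by
    intro j
    induction j with
    | zero => simp
    | succ j ih =>
      have hd : (v ^ (r ^ j))⁻¹ * (a ^ j) v ∈ W := by
        rw [← hker, map_mul, map_inv, map_zpow, ih, inv_mul_cancel]
      have h1 : f (a ((v ^ (r ^ j))⁻¹ * (a ^ j) v)) = 1 := (hker _).2 (hW _ hd)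
      rw [map_mul, map_inv, map_zpow, map_mul, map_inv, map_zpow, inv_mul_eq_one, hr', ← zpow_mul,
        ← pow_succ'] at h1
      rw [pow_succ' a, MulAut.mul_apply, ← h1]
  have hord : orderOf (f v) = p := by
    refine orderOf_eq_prime ?_ hfv
    have := pow_card_eq_one' (x := x)
    rw [hcard] at this
    simpa [x] using congrArg Subtype.val this
  have h2 : f v ^ (r ^ p ^ k - 1) = 1 := by
    rw [zpow_sub, zpow_one, ← hjr, hk, MulAut.one_apply, mul_inv_cancel]
  have h3 : ((r ^ p ^ k - 1 : ℤ) : ZMod p) = 0 := by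
    rw [ZMod.intCast_zmod_eq_zero_iff_dvd]
    have := orderOf_dvd_iff_zpow_eq_one.2 h2
    rwa [hord] at this
  push_cast at h3
  rw [ZMod.pow_card_pow] at h3
  have h4 : f v ^ (r - 1) = 1 := by
    rw [← orderOf_dvd_iff_zpow_eq_one, hord, ← ZMod.intCast_zmod_eq_zero_iff_dvd]
    push_cast
    exact h3
  rw [← hker, map_mul, map_inv, hr', inv_mul_eq_one]
  rw [zpow_sub, zpow_one, mul_inv_eq_one] at h4
  exact h4.symm

end group

open Cfsg Cfsg.FusionSystem Cfsg.Agent.Lib Cfsg.Agent.Lib.Fusion

variable {Ω : Type*} [Group Ω] {S : Subgroup Ω} [Finite S] {F : FusionSystem S}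
  (hS : IsPGroup p S) (hF : F.IsSaturated p) {E : Subgroup Ω} (hE : F.IsEssential p E)

include hS hF hE

theorem exists_conjAut :
    ∃ a ∈ autInducedBy S E, a ∈ F.autGroup E ∧ a ∉ Inn E ∧ ∃ k : ℕ, a ^ p ^ k = 1 := by
  have hES := hE.1.1
  have hne : E ≠ S := AbelianMaximal.ne_of_isEssential hS hF hE
  obtain ⟨g, hg, hgE⟩ := SetLike.exists_of_lt (lt_normalizerIn hS (lt_of_le_of_ne hES hne))
  have hmem : conjAut E g hg.2 ∈ autInducedBy S E := mem_autInducedBy.2 ⟨g, hg.1, fun _ => rfl⟩
  refine ⟨_, hmem, autInducedBy_le_autGroup hES hmem,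
    fun h => hgE (mem_of_conjAut_mem_inn hE.1 hg.1 h), ?_⟩
  obtain ⟨k, hk⟩ := isPGroup_autInducedBy (P := E) hS ⟨_, hmem⟩
  exact ⟨k, by simpa using congrArg Subtype.val hk⟩

/-- No invariant series `frattini ≤ W ≤ E` with steps of order at most `p`. -/
theorem false_of_invariant {W : Subgroup E} [W.Normal] (hΦ : frattini E ≤ W) (hi : W.index ∣ p)
    (hr : (frattini E).relIndex W ∣ p) (hinv : ∀ α ∈ F.autGroup E, ∀ w ∈ W, α w ∈ W) : False := by
  have hES := hE.1.1
  have := finite_of_le hES
  have hEp := hS.to_le hES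
  have := finite_autGroup (F := F) hES
  have hΦinv : ∀ (α : MulAut E), ∀ w ∈ frattini E, α w ∈ frattini E := fun α w hw =>
    (Subgroup.characteristic_iff_map_le.1 frattini_characteristic α) ⟨w, hw, rfl⟩
  let K : Subgroup (MulAut E) :=
    { carrier := {α | α ∈ F.autGroup E ∧ (∀ e, e⁻¹ * α e ∈ W) ∧ ∀ w ∈ W, w⁻¹ * α w ∈ frattini E}
      one_mem' := ⟨one_mem _, fun e => by simp, fun w _ => by simp⟩
      mul_mem' := fun {α β} hα hβ => ⟨(F.autGroup E).mul_mem hα.1 hβ.1, fun e => by
        have h1 := W.mul_mem (hβ.2.1 e) (hα.2.1 (β e))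
        rwa [mul_assoc, mul_inv_cancel_left] at h1, fun w hw => by
        have h1 := (frattini E).mul_mem (hβ.2.2 w hw) (hα.2.2 (β w) (hinv β hβ.1 w hw))
        rwa [mul_assoc, mul_inv_cancel_left] at h1⟩
      inv_mem' := fun {α} hα => ⟨(F.autGroup E).inv_mem hα.1, fun e => by
        have h1 := W.inv_mem (hα.2.1 (α⁻¹ e))
        rwa [MulAut.apply_inv_self, mul_inv_rev, inv_inv] at h1, fun w hw => by
        have h1 := (frattini E).inv_mem (hα.2.2 (α⁻¹ w) (hinv _ ((F.autGroup E).inv_mem hα.1) w hw))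
        rwa [MulAut.apply_inv_self, mul_inv_rev, inv_inv] at h1⟩ }
  have hconj : ∀ β ∈ F.autGroup E, ∀ α ∈ K, β * α * β⁻¹ ∈ K := by
    intro β hβ α hα
    have key : ∀ e, e⁻¹ * (β * α * β⁻¹) e = β ((β⁻¹ e)⁻¹ * α (β⁻¹ e)) := fun e => by
      rw [map_mul, map_inv, MulAut.apply_inv_self]; rfl
    refine ⟨mul_mem (mul_mem hβ hα.1) (inv_mem hβ), fun e => ?_, fun w hw => ?_⟩
    · rw [key]; exact hinv β hβ _ (hα.2.1 _)
    · rw [key]; exact hΦinv β _ (hα.2.2 _ (hinv _ (inv_mem hβ) w hw))
  have hKF : K ≤ F.autGroup E := fun α hα => hα.1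
  have : Finite K := Finite.of_injective (inclusion hKF) (inclusion_injective hKF)
  have hKp : IsPGroup p K := by
    refine Fusion87.isPGroup_of_coprime_trivial fun α hα => ?_
    -- `α` is trivial on the Frattini quotient
    have htriv : ∀ e : E, e⁻¹ * (α : MulAut E) e ∈ frattini E := by
      intro e
      set f := QuotientGroup.mk' (frattini E)
      set z := e⁻¹ * (α : MulAut E) e with hz
      have hfz : ∀ j : ℕ, f (((α : MulAut E) ^ j) e) = f e * f z ^ j := by
        intro j
        induction j with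
        | zero => simp
        | succ j ih =>
          have hd : (e * z ^ j)⁻¹ * ((α : MulAut E) ^ j) e ∈ frattini E := by
            rw [← QuotientGroup.eq_one_iff]
            show f _ = 1
            rw [map_mul, map_inv, map_mul, map_pow, ih, inv_mul_cancel]
          have h1 : f ((α : MulAut E) ((e * z ^ j)⁻¹ * ((α : MulAut E) ^ j) e)) = 1 :=
            (QuotientGroup.eq_one_iff _).2 (hΦinv _ _ hd)
          have h2 : f ((α : MulAut E) z) = f z := by
            have h3 : f (z⁻¹ * (α : MulAut E) z) = 1 :=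
              (QuotientGroup.eq_one_iff _).2 (α.2.2.2 z (α.2.2.1 e))
            rw [map_mul, map_inv, inv_mul_eq_one] at h3
            exact h3.symm
          simp only [map_mul, map_inv, map_pow] at h1
          rw [h2, inv_mul_eq_one, show (α : MulAut E) e = e * z from (mul_inv_cancel_left _ _).symm,
            map_mul, mul_assoc, ← pow_succ'] at h1
          rw [pow_succ' (α : MulAut E), MulAut.mul_apply, ← h1]
      have hn := hfz (orderOf (α : MulAut E))
      rw [pow_orderOf_eq_one, MulAut.one_apply] at hn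
      obtain ⟨k, hk⟩ := hEp z
      have h4 : f z ^ p ^ k = 1 := by rw [← map_pow, hk, map_one]
      have h5 := pow_gcd_eq_one.2 ⟨(mul_eq_left.1 hn.symm : f z ^ orderOf (α : MulAut E) = 1), h4⟩
      rw [Nat.Coprime.gcd_eq_one (Nat.Coprime.pow_right k
        (by rwa [Subgroup.orderOf_coe])), pow_one] at h5
      exact (QuotientGroup.eq_one_iff _).1 h5
    have hp' := isPGroup_of_trivial_on_frattini hEp (zpowers (α : MulAut E)) (fun β hβ x => by
      obtain ⟨j, rfl⟩ := hβ
      let T : Subgroup (MulAut E) :=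
        { carrier := {β | ∀ x, x⁻¹ * β x ∈ frattini E}
          one_mem' := fun x => by simp
          mul_mem' := fun {β γ} hb hc x => by
            have h1 := (frattini E).mul_mem (hc x) (hb (γ x))
            rwa [mul_assoc, mul_inv_cancel_left] at h1
          inv_mem' := fun {β} hb x => by
            have h1 := (frattini E).inv_mem (hb (β⁻¹ x))
            rwa [MulAut.apply_inv_self, mul_inv_rev, inv_inv] at h1 }
      exact (T.zpow_mem (show (α : MulAut E) ∈ T from htriv) j : _) x)
    obtain ⟨k, hk⟩ := hp' ⟨_, mem_zpowers _⟩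
    have hd : orderOf (α : MulAut E) ∣ p ^ k :=
      orderOf_dvd_of_pow_eq_one (by simpa using congrArg Subtype.val hk)
    refine Subtype.ext (orderOf_eq_one_iff.1 (Nat.eq_one_of_dvd_coprimes ?_ dvd_rfl hd))
    rw [Subgroup.orderOf_coe]
    exact hα.pow_right k
  obtain ⟨a, -, haF, haI, k, hk⟩ := exists_conjAut hS hF hE
  refine haI (AbelianMaximal.le_inn_of_isEssential hS hE hKF hconj hKp ⟨haF, fun e => ?_, fun w hw => ?_⟩)
  · exact step_trivial (W := W) (V := ⊤) le_top (by rwa [relIndex_top_right]) hk (hinv a haF)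
      (fun _ _ => mem_top _) (mem_top e)
  · exact step_trivial (W := frattini E) hΦ hr hk (fun u => hΦinv a u) (hinv a haF) hw

end Cfsg.Agent.Lib.RankTwoAut
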