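import Mathlib
import Cfsg.Agent.Lib.Offenders.Plane

/-!
A group of automorphisms of an elementary abelian group of order `p²` with two distinct subgroups
of order `p` contains `SL₂(p)`.
-/

set_option autoImplicit false
set_option linter.unusedSectionVars false

namespace Cfsg.Agent.Lib.RankTwoAut

open Module
open Cfsg.Agent.Lib.Offenders

variable {p : ℕ} [hp : Fact p.Prime]

section module

variable {M : Type*} [AddCommGroup M] [Module (ZMod p) M] [Finite M] {G : Type*} [Group G] [Finite G]
  (ρ : G →* Module.End (ZMod p) M)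

theorem exists_transv (hM : Nat.card M = p ^ 2) (hinj : Function.Injective ρ) {a : G}
    (ha : a ^ p = 1) (ha1 : a ≠ 1) :
    ∃ (w : M) (f : M →ₗ[ZMod p] ZMod p), IsTransv ρ a w f ∧
      ∀ v, f v = 0 → ∃ c : ZMod p, v = c • w := by
  have hfr : finrank (ZMod p) M = 2 := by
    have h := Module.natCard_eq_pow_finrank (K := ZMod p) (V := M)
    rw [hM, Nat.card_zmod] at h
    exact (Nat.pow_right_injective hp.out.two_le h).symm
  set T := ρ a with hT
  have hTp : T ^ p = 1 := by rw [hT, ← map_pow, ha, map_one]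
  -- a fixed vector
  have : Nontrivial M := Module.nontrivial_of_finrank_eq_succ hfr
  haveI : CharP (Module.End (ZMod p) M) p :=
    charP_of_injective_algebraMap (algebraMap (ZMod p) (Module.End (ZMod p) M)).injective p
  have hN : IsNilpotent (T - 1) := by
    refine ⟨p, ?_⟩
    rw [sub_pow_char_of_commute (p := p) (Commute.one_right T), hTp, one_pow, sub_self]
  obtain ⟨w, hw0, hw⟩ : ∃ w : M, w ≠ 0 ∧ T w = w := by
    by_contra hcon
    push Not at hcon
    have hi : Function.Injective (T - 1 : Module.End (ZMod p) M) := by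
      rw [injective_iff_map_eq_zero]
      intro v hv
      by_contra hv0
      exact hcon v hv0 (by simpa [sub_eq_zero] using hv)
    obtain ⟨n, hn⟩ := hN
    obtain ⟨v, hv⟩ : ∃ v : M, v ≠ 0 := exists_ne 0
    refine hv ((Module.End.coe_pow (T - 1) n ▸ hi.iterate n) ?_)
    rw [hn, map_zero]; rfl
  obtain ⟨v₀, hv₀⟩ : ∃ v : M, v ∉ Submodule.span (ZMod p) {w} := by
    by_contra hcon
    push Not at hcon
    have htop : Submodule.span (ZMod p) {w} = ⊤ := _root_.eq_top_iff.2 fun v _ => hcon v
    have := finrank_span_singleton (K := ZMod p) hw0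
    rw [htop, finrank_top, hfr] at this
    omega
  have hli : LinearIndependent (ZMod p) ![w, v₀] := by
    rw [LinearIndependent.pair_iff' hw0]
    exact fun c hc => hv₀ (Submodule.mem_span_singleton.2 ⟨c, hc⟩)
  let B := basisOfLinearIndependentOfCardEqFinrank hli (by simp [hfr])
  have hB0 : B 0 = w := by simp [B]
  have hB1 : B 1 = v₀ := by simp [B]
  have hexp : ∀ v : M, v = B.coord 0 v • w + B.coord 1 v • v₀ := fun v => by
    conv_lhs => rw [← B.sum_repr v, Fin.sum_univ_two, hB0, hB1]
    rfl
  set α := B.coord 0 (T v₀) with hα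
  set β := B.coord 1 (T v₀) with hβ
  have hTv : T v₀ = α • w + β • v₀ := hexp _
  have hpow : ∀ n : ℕ, ∃ c : ZMod p, (T ^ n) v₀ = c • w + β ^ n • v₀ := by
    intro n
    induction n with
    | zero => exact ⟨0, by simp⟩
    | succ n ih =>
      obtain ⟨c, hc⟩ := ih
      refine ⟨c + β ^ n * α, ?_⟩
      rw [pow_succ' T, Module.End.mul_apply, hc, map_add, map_smul, map_smul, hw, hTv, smul_add,
        smul_smul, smul_smul, pow_succ β, add_smul, add_assoc]
  have hβ1 : β = 1 := by
    obtain ⟨c, hc⟩ := hpow p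
    rw [hTp, Module.End.one_apply, ZMod.pow_card] at hc
    have h1 := congrArg (B.coord 1) hc
    rw [← hB1, ← hB0, map_add, map_smul, map_smul] at h1
    simpa using h1.symm
  have hα0 : α ≠ 0 := by
    intro h0
    refine ha1 (hinj ?_)
    rw [map_one, ← hT]
    refine B.ext fun i => ?_
    fin_cases i
    · show T (B 0) = B 0
      rw [hB0, hw]
    · show T (B 1) = B 1
      rw [hB1, hTv, h0, hβ1, zero_smul, one_smul, zero_add]
  refine ⟨w, α • B.coord 1, ⟨fun v => ?_, ?_, hw0, ?_⟩, fun v hv => ?_⟩
  · rw [← hT]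
    conv_lhs => rw [hexp v]
    conv_rhs => arg 1; rw [hexp v]
    rw [map_add, map_smul, map_smul, hw, hTv, hβ1, one_smul, LinearMap.smul_apply, smul_eq_mul,
      smul_add, smul_smul, mul_comm α]
    abel
  · rw [LinearMap.smul_apply, ← hB0]; simp
  · intro h0
    have := LinearMap.congr_fun h0 v₀
    rw [LinearMap.smul_apply, ← hB1] at this
    simp [hα0] at this
  · rw [LinearMap.smul_apply, smul_eq_mul, mul_eq_zero] at hv
    refine ⟨B.coord 0 v, ?_⟩
    conv_lhs => rw [hexp v, hv.resolve_left hα0, zero_smul, add_zero]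

theorem exists_SL_module (hM : Nat.card M = p ^ 2) (hinj : Function.Injective ρ) {a b : G}
    (ha : a ^ p = 1) (ha1 : a ≠ 1) (hb : b ^ p = 1) (hab : b ∉ Subgroup.zpowers a) :
    ∃ K : Subgroup G, Nonempty (K ≃* Matrix.SpecialLinearGroup (Fin 2) (ZMod p)) := by
  have hb1 : b ≠ 1 := fun e => hab (e ▸ one_mem _)
  obtain ⟨u, f, hta, hker⟩ := exists_transv ρ hM hinj ha ha1
  obtain ⟨u', g, htb, hker'⟩ := exists_transv ρ hM hinj hb hb1
  -- two transvections with the same centre have the same axis
  have key : ∀ c : ZMod p, u' = c • u → False := by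
    intro c hc
    have hc0 : c ≠ 0 := fun e => htb.u_ne (by rw [hc, e, zero_smul])
    have hgu : g u = 0 := by
      have h1 := htb.fu
      rw [hc, map_smul, smul_eq_mul] at h1
      exact (mul_eq_zero.1 h1).resolve_left hc0
    obtain ⟨v, hv⟩ : ∃ v, f v ≠ 0 := by
      by_contra hh
      push Not at hh
      exact hta.f_ne (LinearMap.ext hh)
    set n := ((c * g v) / f v).val with hn
    refine hab ?_
    have heq : b = a ^ n := by
      refine hinj (LinearMap.ext fun x => ?_)
      rw [htb.apply, hta.pow_apply, hc, smul_smul, hn, ZMod.natCast_zmod_val]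
      congr 2
      have hx : f (x - (f x / f v) • v) = 0 := by
        rw [map_sub, map_smul, smul_eq_mul, div_mul_cancel₀ _ hv, sub_self]
      obtain ⟨d, hd⟩ := hker _ hx
      have h2 := congrArg g hd
      rw [map_sub, map_smul, map_smul, hgu, smul_zero, sub_eq_zero, smul_eq_mul] at h2
      rw [h2]
      field_simp
    rw [heq]
    exact Subgroup.pow_mem _ (Subgroup.mem_zpowers a) n
  have hfu' : f u' ≠ 0 := fun e => by
    obtain ⟨c, hc⟩ := hker u' e
    exact key c hc
  have hgu : g u ≠ 0 := fun e => by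
    obtain ⟨c, hc⟩ := hker' u e
    have hc0 : c ≠ 0 := fun e' => hta.u_ne (by rw [hc, e', zero_smul])
    exact key c⁻¹ (by rw [hc, smul_smul, inv_mul_cancel₀ hc0, one_smul])
  let P : Plane ρ a b :=
    { u := u
      u' := (f u')⁻¹ • u'
      f := f
      g := f u' • g
      ha := hta
      hb := ⟨fun v => by
          rw [htb.apply, LinearMap.smul_apply, smul_eq_mul, smul_smul, mul_comm (f u'), mul_assoc,
            mul_inv_cancel₀ hfu', mul_one],
        by rw [LinearMap.smul_apply, map_smul, htb.fu, smul_zero, smul_zero],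
        smul_ne_zero (inv_ne_zero hfu') htb.u_ne, fun e => htb.f_ne (by
          rw [← inv_smul_smul₀ hfu' g, e, smul_zero])⟩
      fu' := by rw [map_smul, smul_eq_mul, inv_mul_cancel₀ hfu']
      gu := by rw [LinearMap.smul_apply, smul_eq_mul]; exact mul_ne_zero hfu' hgu }
  exact ⟨P.E, ⟨P.equivSL hinj⟩⟩

end module

/-- Group form. -/
theorem exists_SL {V : Type*} [CommGroup V] [Finite V] (hV : Nat.card V = p ^ 2)
    (hexp : ∀ v : V, v ^ p = 1) {G : Subgroup (MulAut V)} {a b : G}
    (ha : a ^ p = 1) (ha1 : a ≠ 1) (hb : b ^ p = 1) (hab : b ∉ Subgroup.zpowers a) :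
    ∃ K : Subgroup G, Nonempty (K ≃* Matrix.SpecialLinearGroup (Fin 2) (ZMod p)) := by
  haveI : Module (ZMod p) (Additive V) := AddCommGroup.zmodModule fun v => by
    rw [← ofMul_toMul v, ← ofMul_pow, hexp]; rfl
  have : Finite (Additive V) := Finite.of_equiv V Additive.ofMul
  have : Finite (MulAut V) := Finite.of_injective (fun φ : MulAut V => (φ : V → V))
    DFunLike.coe_injective
  let lift : MulAut V → (Additive V →ₗ[ZMod p] Additive V) := fun φ =>
    AddMonoidHom.toZModLinearMap p (MonoidHom.toAdditive φ.toMonoidHom)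
  have hlift : ∀ (φ : MulAut V) (v : Additive V), lift φ v = Additive.ofMul (φ v.toMul) :=
    fun φ v => rfl
  let ρ : G →* Module.End (ZMod p) (Additive V) :=
    { toFun := fun φ => lift φ
      map_one' := LinearMap.ext fun v => by
        rw [hlift, Module.End.one_apply, Subgroup.coe_one, MulAut.one_apply, ofMul_toMul]
      map_mul' := fun φ ψ => LinearMap.ext fun v => by
        rw [Module.End.mul_apply, hlift, hlift, hlift, Subgroup.coe_mul, MulAut.mul_apply, toMul_ofMul] }
  have hinj : Function.Injective ρ := fun φ ψ h => Subtype.ext (MulEquiv.ext fun v => by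
    have := LinearMap.congr_fun h (Additive.ofMul v)
    exact Additive.ofMul.injective this)
  exact exists_SL_module ρ (by rw [Nat.card_congr Additive.toMul]; exact hV) hinj ha ha1 hb hab

end Cfsg.Agent.Lib.RankTwoAut
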