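import Cfsg.Agent.Lib.RankTwoAut.Essential
import Cfsg.Agent.Lib.RankTwoAut.SLTwo
import Cfsg.Agent.Lib.AutOrbits.CentralCommutator
import Cfsg.Agent.Lib.Elem69.PGroupSmall

/-!
Small essential subgroups.
-/

set_option autoImplicit false
set_option linter.unusedSectionVars false

namespace Cfsg.Agent.Lib.RankTwoAut

open scoped commutatorElement
open Subgroup Cfsg Cfsg.FusionSystem Cfsg.Agent.Lib Cfsg.Agent.Lib.Fusion

variable {p : ℕ} [hp : Fact p.Prime] {Ω : Type*} [Group Ω] {S : Subgroup Ω} [Finite S]
  {F : FusionSystem S} (hS : IsPGroup p S) (hF : F.IsSaturated p) {E : Subgroup Ω}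
  (hE : F.IsEssential p E)

include hS hF hE

theorem frattini_index_not_dvd : ¬ (frattini E).index ∣ p := fun h => by
  haveI : (frattini E).Normal := inferInstance
  exact false_of_invariant hS hF hE (W := frattini E) le_rfl h
    (by rw [relIndex_self]; exact one_dvd p) fun α _ w hw =>
      (characteristic_iff_map_le.1 frattini_characteristic α) ⟨w, hw, rfl⟩

theorem sq_le_index_frattini : p ^ 2 ≤ (frattini E).index := by
  have := finite_of_le hE.1.1
  obtain ⟨j, hj⟩ := (hS.to_le hE.1.1).index (frattini E)
  rw [hj]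
  refine Nat.pow_le_pow_right hp.out.pos ?_
  by_contra hlt
  exact frattini_index_not_dvd hS hF hE
    (hj ▸ (Nat.pow_dvd_pow p (by omega : j ≤ 1)).trans (pow_one p).dvd)

omit hF in
theorem elementary_of_frattini_bot (h : frattini E = ⊥) : Cfsg.IsElementaryAbelian p E := by
  have := finite_of_le hE.1.1
  have hEp := hS.to_le hE.1.1
  refine ⟨⟨⟨fun a b => ?_⟩⟩, fun a ha => ?_⟩
  · have h1 : ⁅a, b⁆ ∈ frattini E := Lib.PFrattini.commutator_le_frattini hEp
      (commutator_mem_commutator (mem_top a) (mem_top b))
    rw [h, mem_bot] at h1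
    exact commutatorElement_eq_one_iff_mul_comm.1 h1
  · have h1 := Lib.PFrattini.pow_mem_frattini hEp (⟨a, ha⟩ : E)
    rw [h, mem_bot] at h1
    simpa using congrArg Subtype.val h1

/-- An automorphism of order `p` not normal among the automorphisms. -/
theorem exists_not_normal (hab : IsMulCommutative E) :
    ∃ a b : F.autGroup E, a ^ p = 1 ∧ a ≠ 1 ∧ b ^ p = 1 ∧ b ∉ zpowers a ∧
      (a : MulAut E) ∈ autInducedBy S E := by
  have hES := hE.1.1
  have := finite_of_le hES
  have := finite_autGroup (F := F) hES
  have hInn : Inn E = ⊥ := eq_bot_iff.2 fun α ⟨g, hg⟩ => by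
    rw [mem_bot, ← hg]
    refine MulEquiv.ext fun x => ?_
    show g * x * g⁻¹ = x
    rw [hab.is_comm.comm g x, mul_inv_cancel_right]
  obtain ⟨c, hc, hcF, hcI, k, hk⟩ := exists_conjAut hS hF hE
  have hc1 : c ≠ 1 := fun e => hcI (e ▸ one_mem _)
  obtain ⟨j, -, hord⟩ := (Nat.dvd_prime_pow hp.out).1 (orderOf_dvd_of_pow_eq_one hk)
  have hj : j ≠ 0 := by
    rintro rfl
    exact hc1 (orderOf_eq_one_iff.1 (by simpa using hord))
  set a : F.autGroup E := ⟨c ^ p ^ (j - 1), pow_mem hcF _⟩ with ha
  have hap : a ^ p = 1 := Subtype.ext (by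
    rw [SubgroupClass.coe_pow]
    show (c ^ p ^ (j - 1)) ^ p = 1
    rw [← pow_mul, ← pow_succ, Nat.sub_add_cancel (Nat.one_le_iff_ne_zero.2 hj), ← hord,
      pow_orderOf_eq_one])
  have ha1 : a ≠ 1 := fun e => by
    have h1 : c ^ p ^ (j - 1) = 1 := congrArg Subtype.val e
    have h2 := orderOf_dvd_of_pow_eq_one h1
    rw [hord, Nat.pow_dvd_pow_iff_le_right hp.out.one_lt] at h2
    omega
  have haS : (a : MulAut E) ∈ autInducedBy S E := pow_mem hc _
  by_contra hcon
  push Not at hcon
  have hle : (zpowers a).map (F.autGroup E).subtype ≤ Inn E := by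
    refine AbelianMaximal.le_inn_of_isEssential hS hE (map_subtype_le _) ?_ ?_
    · rintro β hβ _ ⟨m, ⟨i, rfl⟩, rfl⟩
      refine ⟨(⟨β, hβ⟩ * a * ⟨β, hβ⟩⁻¹) ^ i, zpow_mem ?_ i, ?_⟩
      · by_contra hn
        exact hcon a (⟨β, hβ⟩ * a * ⟨β, hβ⟩⁻¹) hap ha1 (by rw [conj_pow, hap, mul_one, mul_inv_cancel])
          hn haS
      · rw [conj_zpow]; rfl
    · refine IsPGroup.map (IsPGroup.of_card (n := 1) ?_) _
      rw [Nat.card_zpowers, pow_one]
      exact orderOf_eq_prime hap ha1
  rw [hInn] at hle
  exact ha1 (Subtype.ext (mem_bot.1 (hle ⟨a, mem_zpowers a, rfl⟩)))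

theorem structure_sq (hcard : Nat.card E = p ^ 2) : Cfsg.IsElementaryAbelian p E ∧
    ∃ K : Subgroup (F.autGroup E), Nonempty (K ≃* Matrix.SpecialLinearGroup (Fin 2) (ZMod p)) := by
  have hES := hE.1.1
  have := finite_of_le hES
  have hbot : frattini E = ⊥ := by
    refine card_eq_one.1 ?_
    have h1 := sq_le_index_frattini hS hF hE
    have h2 := (frattini E).card_mul_index
    rw [hcard] at h2
    have h3 : 0 < Nat.card (frattini E) := Nat.card_pos
    nlinarith [pow_pos hp.out.pos 2]
  obtain ⟨hab, hexp⟩ := elementary_of_frattini_bot hS hE hbot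
  refine ⟨⟨hab, hexp⟩, ?_⟩
  obtain ⟨a, b, ha, ha1, hb, hab', -⟩ := exists_not_normal hS hF hE hab
  letI : CommGroup E := { (inferInstance : Group E) with mul_comm := hab.is_comm.comm }
  exact exists_SL (V := E) hcard (fun v => Subtype.ext (by simpa using hexp v v.2)) ha ha1 hb hab'

theorem structure_cube (hcard : Nat.card E = p ^ 3) :
    Cfsg.IsElementaryAbelian p E ∨ (Odd p ∧ Cfsg.IsExtraspecial p E ∧ ∀ x ∈ E, x ^ p = 1) ∨
      (p = 2 ∧ Nonempty (E ≃* QuaternionGroup 2)) := by
  have hES := hE.1.1
  have := finite_of_le hES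
  have hEp := hS.to_le hES
  by_cases hbot : frattini E = ⊥
  · exact Or.inl (elementary_of_frattini_bot hS hE hbot)
  -- the Frattini subgroup has order `p`
  have hΦc : Nat.card (frattini E) = p ∧ (frattini E).index = p ^ 2 := by
    obtain ⟨j, hj⟩ := IsPGroup.iff_card.1 (hEp.to_subgroup (frattini E))
    obtain ⟨i, hi⟩ := hEp.index (frattini E)
    have hij := (frattini E).card_mul_index
    rw [hcard, hj, hi, ← pow_add] at hij
    have hij' := Nat.pow_right_injective hp.out.two_le hij
    have hj0 : j ≠ 0 := fun e => hbot (card_eq_one.1 (by rw [hj, e, pow_zero]))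
    have h2 := sq_le_index_frattini hS hF hE
    rw [hi, Nat.pow_le_pow_iff_right hp.out.one_lt] at h2
    obtain ⟨rfl, rfl⟩ : j = 1 ∧ i = 2 := by omega
    exact ⟨by rw [hj, pow_one], hi⟩
  have hΦ1 : ∀ z ∈ frattini E, z ^ p = 1 := fun z hz => by
    have h1 : (⟨z, hz⟩ : frattini E) ^ p = 1 := by rw [← hΦc.1]; exact pow_card_eq_one'
    simpa using congrArg Subtype.val h1
  have hpowΦ := Lib.PFrattini.pow_mem_frattini (p := p) hEp
  -- if the `p`-th power map is a homomorphism, it is trivial
  have hexp : (∀ x y : E, (x * y) ^ p = x ^ p * y ^ p) → ∀ x : E, x ^ p = 1 := by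
    intro hmul
    let φ : E →* E := { toFun := fun x => x ^ p, map_one' := one_pow p, map_mul' := hmul }
    by_contra hne
    push Not at hne
    obtain ⟨x, hx⟩ := hne
    haveI : φ.ker.Normal := inferInstance
    refine false_of_invariant hS hF hE (W := φ.ker) (fun z hz => hΦ1 z hz) ?_ ?_ fun α _ w hw => ?_
    · have h1 : φ.range ≤ frattini E := by rintro _ ⟨y, rfl⟩; exact hpowΦ y
      rw [index_ker, ← hΦc.1]
      exact card_dvd_of_le h1
    · refine (Nat.dvd_of_mul_dvd_mul_right hp.out.pos ?_)
      have e1 := relIndex_mul_index (show frattini E ≤ φ.ker from fun z hz => hΦ1 z hz)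
      rw [hΦc.2] at e1
      have e2 : p ∣ φ.ker.index := by
        obtain ⟨i, hi⟩ := hEp.index φ.ker
        rw [hi]
        refine dvd_pow_self p fun e => hx ?_
        rw [e, pow_zero, index_eq_one] at hi
        exact (hi ▸ mem_top x : x ∈ φ.ker)
      obtain ⟨q, hq⟩ := e2
      rw [hq, ← mul_assoc, mul_comm _ p, mul_assoc] at e1
      exact ⟨q, by rw [← pow_two, ← e1]; ring⟩
    · show α w ^ p = 1
      rw [← map_pow, show w ^ p = 1 from hw, map_one]
  by_cases hab : IsMulCommutative E
  · exact Or.inl ⟨hab, fun x hx => by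
      simpa using congrArg Subtype.val (hexp (fun x y => (show Commute x y from
        hab.is_comm.comm x y).mul_pow p) ⟨x, hx⟩)⟩
  obtain ⟨a, b, hne⟩ : ∃ a b : E, a * b ≠ b * a := by
    by_contra hcon
    push Not at hcon
    exact hab ⟨⟨hcon⟩⟩
  -- the Frattini subgroup is the centre and the derived subgroup
  have hΦZ : frattini E ≤ center E := by
    intro z hz
    rw [mem_center_iff]
    intro g
    have hk : ∀ i, (MulAut.conj g : MulAut E) i = g * i * g⁻¹ := fun i => rfl
    obtain ⟨k, hk'⟩ := hEp g
    have h1 := step_trivial (W := (⊥ : Subgroup E)) (V := frattini E) bot_le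
      (by rw [relIndex_bot_left, hΦc.1]) (a := MulAut.conj g) (k := k)
      (by rw [← map_pow, hk', map_one]) (fun w hw => by rw [mem_bot] at hw ⊢; rw [hw, map_one])
      (fun v hv => (inferInstance : (frattini E).Normal).conj_mem v hv g) hz
    rw [mem_bot, inv_mul_eq_one, hk] at h1
    rw [eq_mul_inv_iff_mul_eq] at h1
    exact h1.symm
  have hZcard : Nat.card (center E) = p := by
    obtain ⟨j, hj⟩ := IsPGroup.iff_card.1 (hEp.to_subgroup (center E))
    obtain ⟨i, hi⟩ := hEp.index (center E)
    have hij := (center E).card_mul_index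
    rw [hcard, hj, hi, ← pow_add] at hij
    have hij' := Nat.pow_right_injective hp.out.two_le hij
    have hj1 : 1 ≤ j := by
      by_contra hlt
      have := card_le_of_le hΦZ
      rw [hΦc.1, hj, show j = 0 by omega, pow_zero] at this
      exact absurd this (not_le.2 hp.out.one_lt)
    have hi2 : 2 ≤ i := by
      by_contra hlt
      refine hne ?_
      have : IsCyclic (E ⧸ center E) := by
        rcases (show i = 0 ∨ i = 1 by omega) with rfl | rfl
        · have : Subsingleton (E ⧸ center E) :=
            (Nat.card_eq_one_iff_unique.1 (by rw [← index_eq_card, hi, pow_zero])).1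
          infer_instance
        · exact isCyclic_of_prime_card (p := p) (by rw [← index_eq_card, hi, pow_one])
      exact ((QuotientGroup.mk' (center E)).isMulCommutative_of_isCyclic_of_ker_le_center
        (QuotientGroup.ker_mk' _).le).is_comm.comm a b
    rw [hj, show j = 1 by omega, pow_one]
  have hΦeq : frattini E = center E := eq_of_le_of_card_ge hΦZ (by rw [hZcard, hΦc.1])
  have hcomm : commutator E = center E := by
    refine eq_of_le_of_card_ge ((Lib.PFrattini.commutator_le_frattini hEp).trans hΦZ) ?_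
    rw [hZcard]
    obtain ⟨j, hj⟩ := IsPGroup.iff_card.1 (hEp.to_subgroup (commutator E))
    rw [hj]
    refine Nat.le_self_pow ?_ p
    rintro rfl
    rw [pow_zero, card_eq_one] at hj
    have h1 : ⁅a, b⁆ ∈ commutator E := commutator_mem_commutator (mem_top a) (mem_top b)
    rw [hj, mem_bot] at h1
    exact hne (commutatorElement_eq_one_iff_mul_comm.1 h1)
  rcases hp.out.eq_two_or_odd' with rfl | hodd
  · refine Or.inr (Or.inr ⟨rfl, ?_⟩)
    -- a single involution
    obtain ⟨z, hzΦ, hz1⟩ : ∃ z ∈ frattini E, z ≠ 1 := by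
      by_contra hcon
      push Not at hcon
      exact hbot (eq_bot_iff.2 fun z hz => mem_bot.2 (hcon z hz))
    have hΦz : ∀ u ∈ frattini E, u = 1 ∨ u = z := by
      intro u hu
      obtain ⟨x, y, hxy, huniv⟩ := Nat.card_eq_two_iff.1 hΦc.1
      have h1 : ∀ v : frattini E, v = x ∨ v = y := fun v => by
        simpa using (huniv.symm ▸ Set.mem_univ v : v ∈ ({x, y} : Set (frattini E)))
      rcases h1 ⟨u, hu⟩ with h2 | h2 <;> rcases h1 ⟨z, hzΦ⟩ with h3 | h3 <;> rcases h1 1 with h4 | h4 <;>
        first
          | exact Or.inr (congrArg Subtype.val (h2.trans h3.symm))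
          | exact Or.inl (congrArg Subtype.val (h2.trans h4.symm))
          | exact absurd (congrArg Subtype.val (h3.trans h4.symm)) hz1
    have hinv : ∀ f : E, f * f = 1 → f ∈ frattini E := by
      intro f hf
      by_contra hfΦ
      obtain ⟨r, hr⟩ : ∃ r : E, r * r ≠ 1 := by
        by_contra hcon
        push Not at hcon
        refine hne ?_
        have e1 := hcon (a * b)
        rw [← inv_eq_iff_mul_eq_one, mul_inv_rev, inv_eq_of_mul_eq_one_right (hcon a),
          inv_eq_of_mul_eq_one_right (hcon b)] at e1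
        exact e1.symm
      have hr2 : r ^ 2 = z := (hΦz _ (hpowΦ r)).resolve_left (by rwa [pow_two])
      have hr4 : r ^ 4 = 1 := by
        rw [show 4 = 2 * 2 from rfl, pow_mul, hr2, hΦ1 z hzΦ]
      have ho : orderOf r = 4 := orderOf_eq_prime_pow (p := 2) (n := 1)
        (by rw [pow_one, pow_two]; exact hr) hr4
      have hidx : (zpowers r).index = 2 := by
        have h1 := (zpowers r).card_mul_index
        rw [Nat.card_zpowers, ho, hcard] at h1
        omega
      have hfr : f ∉ zpowers r := by
        intro hmem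
        obtain ⟨i, rfl⟩ := hmem
        rcases Int.even_or_odd i with ⟨q, rfl⟩ | ⟨q, rfl⟩
        · exact hfΦ (by
            show r ^ (q + q) ∈ frattini E
            rw [← two_mul, zpow_mul, zpow_ofNat, hr2]; exact zpow_mem hzΦ q)
        · have hd : ((orderOf r : ℕ) : ℤ) ∣ (2 * q + 1) + (2 * q + 1) :=
            orderOf_dvd_iff_zpow_eq_one.2 (by rw [zpow_add]; exact hf)
          rw [ho] at hd
          omega
      have hnorm : (zpowers r).Normal := Subgroup.normal_of_index_eq_two hidx
      obtain ⟨i, hi⟩ := hnorm.conj_mem r (mem_zpowers r) f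
      have hfi : f⁻¹ = f := inv_eq_of_mul_eq_one_right hf
      have hzr : ∀ v : E, v ∈ frattini E → v ∈ zpowers r := fun v hv => by
        rcases hΦz v hv with rfl | rfl
        · exact one_mem _
        · exact hr2 ▸ pow_mem (mem_zpowers r) 2
      haveI := hnorm
      refine false_of_invariant hS hF hE (W := zpowers r) hzr (hidx ▸ dvd_rfl) ?_ fun α _ w hw => ?_
      · have e1 := relIndex_mul_index (show frattini E ≤ zpowers r from hzr)
        rw [hΦc.2, hidx] at e1
        exact ⟨1, by omega⟩
      -- all elements with non-trivial square lie in `⟨r⟩`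
      have hall : ∀ v : E, v * v ≠ 1 → v ∈ zpowers r := by
        intro v hv
        by_contra hvr
        obtain ⟨q, hq⟩ := mem_zpowers_iff.1 ((mul_mem_iff_of_index_two hidx).2
          ⟨fun h => absurd h hfr, fun h => absurd h hvr⟩ : f * v ∈ zpowers r)
        have hv' : v = f * r ^ q := by rw [hq, ← mul_assoc, hf, one_mul]
        have hfrf : f * r * f⁻¹ = r⁻¹ := by
          have hi' : r ^ i = f * r * f⁻¹ := hi
          rw [← hi']
          have hm := Int.emod_emod_of_dvd i (show (4 : ℤ) ∣ 4 from dvd_rfl)
          have hcases : i % 4 = 0 ∨ i % 4 = 1 ∨ i % 4 = 2 ∨ i % 4 = 3 := by omega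
          have hred : r ^ i = r ^ (i % 4) := by
            conv_lhs => rw [show i = i % 4 + 4 * (i / 4) by omega, zpow_add, zpow_mul, zpow_ofNat r 4, hr4,
              one_zpow, mul_one]
          rcases hcases with h | h | h | h <;> rw [hred, h] at hi' ⊢
          · exact absurd (conj_eq_one_iff.1 ((zpow_zero r).symm.trans hi').symm) (fun e => hr (by rw [e, one_mul]))
          · rw [zpow_one] at hi'
            exfalso
            have hcom : f * r = r * f := by rw [eq_mul_inv_iff_mul_eq] at hi'; exact hi'.symm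
            have hle : zpowers r ⊔ zpowers f ≤ centralizer {r} := sup_le
              (zpowers_le.2 (mem_centralizer_singleton_iff.2 rfl))
              (zpowers_le.2 (mem_centralizer_singleton_iff.2 hcom))
            have htop : zpowers r ⊔ zpowers f = ⊤ := by
              rw [← index_eq_one]
              have hd : (zpowers r ⊔ zpowers f).index ∣ 2 := hidx ▸ index_dvd_of_le le_sup_left
              refine ((Nat.dvd_prime Nat.prime_two).1 hd).resolve_right fun e => hfr ?_
              have e2 := relIndex_mul_index (le_sup_left : zpowers r ≤ zpowers r ⊔ zpowers f)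
              rw [e, hidx] at e2
              exact relIndex_eq_one.1 (Nat.eq_of_mul_eq_mul_right two_pos (e2.trans (one_mul 2).symm))
                (mem_sup_right (mem_zpowers f))
            have hrc : r ∈ center E := mem_center_iff.2 fun g =>
              mem_centralizer_singleton_iff.1 (hle (htop ▸ mem_top g))
            exact hr (by rw [← pow_two]; exact hΦ1 r (hΦeq ▸ hrc))
          · exfalso
            refine hr ?_
            have : (f * r * f⁻¹) ^ 2 = 1 := by
              rw [← hi', ← zpow_natCast, ← zpow_mul]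
              show r ^ ((4 : ℕ) : ℤ) = 1
              rw [zpow_natCast, hr4]
            rw [conj_pow, conj_eq_one_iff] at this
            rwa [← pow_two]
          · refine (eq_inv_of_mul_eq_one_left ?_)
            rw [← zpow_add_one, show (3 : ℤ) + 1 = ((4 : ℕ) : ℤ) from rfl, zpow_natCast, hr4]
        refine hv ?_
        have hc : f * r ^ q * f⁻¹ = r ^ (-q) := by rw [← conj_zpow, hfrf, inv_zpow']
        calc v * v = f * r ^ q * f * r ^ q := by rw [hv', mul_assoc _ f (r ^ q)]
          _ = f * r ^ q * f⁻¹ * r ^ q := by rw [hfi]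
          _ = 1 := by rw [hc, ← zpow_add, neg_add_cancel, zpow_zero]
      by_cases hw2 : w * w = 1
      · obtain ⟨q, rfl⟩ := hw
        rcases Int.even_or_odd q with ⟨t, rfl⟩ | ⟨t, rfl⟩
        · refine hzr _ ((characteristic_iff_map_le.1 frattini_characteristic α) ⟨_, ?_, rfl⟩)
          show r ^ (t + t) ∈ frattini E
          rw [← two_mul, zpow_mul, zpow_ofNat, hr2]; exact zpow_mem hzΦ t
        · have hd : ((orderOf r : ℕ) : ℤ) ∣ (2 * t + 1) + (2 * t + 1) :=
            orderOf_dvd_iff_zpow_eq_one.2 (by rw [zpow_add]; exact hw2)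
          rw [ho] at hd
          omega
      · refine hall _ fun e => hw2 (α.injective ?_)
        rw [map_mul, e, map_one]
    have huniq : ∀ x : E, x * x = 1 → x = 1 ∨ x = z := fun x hx => hΦz x (hinv x hx)
    have hiso : ∀ H K : Subgroup E, Nat.card H = Nat.card K → Nonempty (H ≃* K) := by
      intro H K heq
      by_cases hHt : H = ⊤
      · subst hHt
        have hKt : K = ⊤ := eq_top_of_card_eq K (by rw [← heq, card_top])
        subst hKt
        exact ⟨MulEquiv.refl _⟩
      have hcyc : ∀ L : Subgroup E, L ≠ ⊤ → IsCyclic L := by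
        intro L hL
        obtain ⟨j, hj⟩ := IsPGroup.iff_card.1 (hEp.to_subgroup L)
        have hj3 : j ≤ 2 := by
          by_contra hlt
          refine hL (eq_top_of_le_card L ?_)
          rw [hj, hcard]
          exact Nat.pow_le_pow_right two_pos (by omega)
        by_contra hnc
        rcases (show j = 0 ∨ j = 1 ∨ j = 2 by omega) with rfl | rfl | rfl
        · have : Subsingleton L := (Nat.card_eq_one_iff_unique.1 (by rw [hj, pow_zero])).1
          exact hnc inferInstance
        · exact hnc (isCyclic_of_prime_card (p := 2) (by rw [hj, pow_one]))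
        · have hexp2 : ∀ u : L, (u : E) = 1 ∨ (u : E) = z := by
            intro u
            refine huniq _ ?_
            have hd : orderOf u ∣ 2 ^ 2 := hj ▸ orderOf_dvd_natCard u
            obtain ⟨i, hi, hie⟩ := (Nat.dvd_prime_pow Nat.prime_two).1 hd
            rcases (show i ≤ 1 ∨ i = 2 by omega) with h1 | rfl
            · have := orderOf_dvd_iff_pow_eq_one.1
                (hie ▸ (Nat.pow_dvd_pow 2 h1).trans (pow_one 2).dvd : orderOf u ∣ 2)
              rw [← pow_two]
              simpa using congrArg Subtype.val this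
            · exact absurd (isCyclic_of_orderOf_eq_card u (hie.trans hj.symm)) hnc
          have hle : Nat.card L ≤ 2 := by
            let g : L → Bool := fun u => by classical exact decide ((u : E) = 1)
            refine (Nat.card_le_card_of_injective g fun u v huv => Subtype.ext ?_).trans (by simp)
            rcases hexp2 u with h | h <;> rcases hexp2 v with h' | h' <;>
              simp [g, h, h', hz1] at huv ⊢
          rw [hj] at hle
          omega
      have hKt : K ≠ ⊤ := fun e => hHt (eq_top_of_card_eq H (by rw [heq, e, card_top]))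
      haveI := hcyc H hHt
      haveI := hcyc K hKt
      exact ⟨mulEquivOfCyclicCardEq heq⟩
    exact (Elem69.isCyclic_or_quaternion hEp hiso huniq).resolve_left fun hc => hne (by
      obtain ⟨g, hg⟩ := hc.exists_generator
      obtain ⟨i, rfl⟩ := hg a
      obtain ⟨j, rfl⟩ := hg b
      exact (Commute.zpow_zpow_self g i j).eq)
  · have hmul : ∀ x y : E, (x * y) ^ p = x ^ p * y ^ p := fun x y => by
      have hd : y * x * y⁻¹ * x⁻¹ ∈ center E := by
        rw [← hcomm, ← commutatorElement_def]
        exact commutator_mem_commutator (mem_top y) (mem_top x)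
      have hd2 : y * x = x * y * (y * x * y⁻¹ * x⁻¹) := by
        rw [mem_center_iff.1 hd (x * y)]; group
      rw [AutOrbits.mul_pow_central (d := y * x * y⁻¹ * x⁻¹) hd hd2]
      obtain ⟨k, hk⟩ := hp.out.dvd_choose_self (k := 2) two_ne_zero
        (lt_of_le_of_ne hp.out.two_le fun e => by subst e; exact absurd hodd (by decide))
      rw [hk, pow_mul, hΦ1 (y * x * y⁻¹ * x⁻¹) (hΦeq ▸ hd), one_pow, mul_one]
    exact Or.inr (Or.inl ⟨hodd, ⟨⟨hEp, hΦeq, hcomm⟩, hZcard⟩, fun x hx => by
      simpa using congrArg Subtype.val (hexp hmul ⟨x, hx⟩)⟩)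

end Cfsg.Agent.Lib.RankTwoAut
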