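import Cfsg.Agent.Lib.RankTwoAut.Small
import Cfsg.Agent.Lib.H66.RankTwo.Criterion

/-!
Two-generated abelian essential subgroups.
-/

set_option autoImplicit false
set_option linter.unusedSectionVars false
set_option maxHeartbeats 400000

namespace Cfsg.Agent.Lib.RankTwoAut

open Subgroup Cfsg Cfsg.FusionSystem Cfsg.Agent.Lib Cfsg.Agent.Lib.Fusion

variable {p : ℕ} [hp : Fact p.Prime]

/-- For an abelian `p`-group the Frattini subgroup consists of the `p`-th powers. -/
theorem mem_frattini_iff_pow {G : Type*} [Group G] [Finite G] (hG : IsPGroup p G)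
    (hab : ∀ a b : G, a * b = b * a) {x : G} : x ∈ frattini G ↔ ∃ y : G, y ^ p = x := by
  let φ : G →* G :=
    { toFun := fun y => y ^ p, map_one' := one_pow p
      map_mul' := fun a b => (show Commute a b from hab a b).mul_pow p }
  refine ⟨fun hx => ?_, ?_⟩
  · have hle : frattini G ≤ φ.range := by
      refine Lib.PFrattini.frattini_le ?_ fun y => ⟨y, rfl⟩
      rw [commutator_def, commutator_le]
      intro a _ b _
      rw [commutatorElement_eq_one_iff_mul_comm.2 (hab a b)]
      exact one_mem _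
    exact hle hx
  · rintro ⟨y, rfl⟩
    exact Lib.PFrattini.pow_mem_frattini hG y

variable {Ω : Type*} [Group Ω] {S : Subgroup Ω} [Finite S]
  {F : FusionSystem S} (hS : IsPGroup p S) (hF : F.IsSaturated p) {E : Subgroup Ω}
  (hE : F.IsEssential p E)

include hS hF hE

theorem abelian_homocyclic (hab : ∀ a b : E, a * b = b * a) (hrk : (frattini E).index ≤ p ^ 2) :
    ∃ k : ℕ, 0 < k ∧ Nat.card E = p ^ k * p ^ k ∧ (∀ x : E, x ^ p ^ k = 1) ∧
      (∀ x : E, x ∉ frattini E → orderOf x = p ^ k) ∧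
      Nonempty (E ≃* Multiplicative (ZMod (p ^ k) × ZMod (p ^ k))) := by
  have hES := hE.1.1
  have := finite_of_le hES
  have hEp := hS.to_le hES
  have hi : (frattini E).index = p ^ 2 := le_antisymm hrk (sq_le_index_frattini hS hF hE)
  obtain ⟨k, hk⟩ : ∃ k, Monoid.exponent E = p ^ k := by
    obtain ⟨n, hn⟩ := hEp.exists_card_eq
    obtain ⟨k, -, hk⟩ := (Nat.dvd_prime_pow hp.out).1 (hn ▸ Group.exponent_dvd_nat_card (G := E))
    exact ⟨k, hk⟩
  have hexp : ∀ x : E, x ^ p ^ k = 1 := fun x => hk ▸ Monoid.pow_exponent_eq_one x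
  obtain ⟨x₀, hx₀⟩ : ∃ x : E, x ∉ frattini E := by
    by_contra hcon
    push Not at hcon
    rw [show frattini E = ⊤ from eq_top_iff.2 fun x _ => hcon x, index_top] at hi
    exact absurd hi (ne_of_lt (Nat.one_lt_pow two_ne_zero hp.out.one_lt))
  have hk0 : 0 < k := by
    rcases Nat.eq_zero_or_pos k with rfl | h
    · refine absurd ?_ hx₀
      have := hexp x₀
      rw [pow_zero, pow_one] at this
      rw [this]; exact one_mem _
    · exact h
  -- the elements of smaller order are the Frattini subgroup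
  let φ : E →* E :=
    { toFun := fun y => y ^ p ^ (k - 1), map_one' := one_pow _
      map_mul' := fun a b => (show Commute a b from hab a b).mul_pow _ }
  have hΦker : frattini E ≤ φ.ker := fun x hx => by
    obtain ⟨y, rfl⟩ := (mem_frattini_iff_pow hEp hab).1 hx
    show (y ^ p) ^ p ^ (k - 1) = 1
    rw [← pow_mul, ← pow_succ', Nat.sub_add_cancel hk0, hexp]
  have hker : φ.ker = frattini E := by
    by_contra hne
    obtain ⟨i, hi'⟩ := hEp.index φ.ker
    have h1 := relIndex_mul_index hΦker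
    rw [hi, hi'] at h1
    have hi0 : i ≠ 0 := by
      rintro rfl
      rw [pow_zero, index_eq_one] at hi'
      have hd : Monoid.exponent E ∣ p ^ (k - 1) :=
        Monoid.exponent_dvd_of_forall_pow_eq_one fun x => (hi' ▸ mem_top x : x ∈ φ.ker)
      rw [hk, Nat.pow_dvd_pow_iff_le_right hp.out.one_lt] at hd
      omega
    have hr0 : (frattini E).relIndex φ.ker ≠ 1 := fun e =>
      hne (le_antisymm (relIndex_eq_one.1 e) hΦker)
    have hd : p ^ i ∣ p ^ 2 := ⟨_, (h1.symm.trans (mul_comm _ _))⟩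
    have hi2 : i ≤ 2 := (Nat.pow_dvd_pow_iff_le_right hp.out.one_lt).1 hd
    obtain rfl : i = 1 := by
      rcases (show i = 1 ∨ i = 2 by omega) with h | rfl
      · exact h
      · exact absurd (Nat.eq_of_mul_eq_mul_right (pow_pos hp.out.pos 2)
          (h1.trans (one_mul _).symm)) hr0
    rw [pow_one] at hi'
    rw [pow_one, pow_two] at h1
    refine false_of_invariant hS hF hE (W := φ.ker) hΦker (hi' ▸ dvd_rfl) ?_ fun α _ w hw => ?_
    · rw [Nat.eq_of_mul_eq_mul_right hp.out.pos h1]
    · show α w ^ p ^ (k - 1) = 1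
      rw [← map_pow, show w ^ p ^ (k - 1) = 1 from hw, map_one]
  have hord : ∀ x : E, x ∉ frattini E → orderOf x = p ^ k := by
    intro x hx
    obtain ⟨j, hj, hje⟩ := (Nat.dvd_prime_pow hp.out).1 (orderOf_dvd_of_pow_eq_one (hexp x))
    rw [hje]
    congr 1
    by_contra hne
    refine hx (hker ▸ (?_ : x ^ p ^ (k - 1) = 1))
    exact orderOf_dvd_iff_pow_eq_one.1 (hje ▸ Nat.pow_dvd_pow p (by omega))
  obtain ⟨y, hgen⟩ := H66.RankTwo.exists_pair hEp hrk hx₀
  have hgenΦ : ∀ {u v : E}, closure ({u, v} : Set E) = ⊤ → u ∉ frattini E := by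
    intro u v huv hu
    have hle : closure ({u, v} : Set E) ≤ zpowers v ⊔ frattini E := (closure_le _).2 (by
      rintro q (rfl | rfl)
      exacts [mem_sup_right hu, mem_sup_left (mem_zpowers _)])
    have hv : zpowers v = ⊤ := frattini_nongenerating (top_le_iff.1 (huv ▸ hle))
    refine frattini_index_not_dvd hS hF hE ?_
    obtain ⟨j, hj⟩ := hEp.index (frattini E)
    rw [hi]
    exfalso
    have hd : (frattini E).index ∣ p := by
      have hcyc : IsCyclic (E ⧸ frattini E) := by
        refine ⟨⟨QuotientGroup.mk v, fun q => ?_⟩⟩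
        obtain ⟨w, rfl⟩ := QuotientGroup.mk_surjective q
        obtain ⟨n, rfl⟩ := (hv ▸ mem_top w : w ∈ zpowers v)
        exact ⟨n, rfl⟩
      obtain ⟨g, hg⟩ := hcyc.exists_generator
      obtain ⟨w, rfl⟩ := QuotientGroup.mk_surjective g
      rw [index_eq_card, ← orderOf_eq_card_of_forall_mem_zpowers hg]
      refine orderOf_dvd_of_pow_eq_one ?_
      rw [← QuotientGroup.mk_pow, QuotientGroup.eq_one_iff]
      exact Lib.PFrattini.pow_mem_frattini hEp w
    exact frattini_index_not_dvd hS hF hE hd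
  have hy : y ∉ frattini E := hgenΦ (v := x₀) (by rwa [Set.pair_comm])
  -- the homomorphism
  letI : CommGroup E := { (inferInstance : Group E) with mul_comm := hab }
  let f : Multiplicative (ZMod (p ^ k) × ZMod (p ^ k)) → E := fun q =>
    x₀ ^ (Multiplicative.toAdd q).1.val * y ^ (Multiplicative.toAdd q).2.val
  haveI : NeZero (p ^ k) := ⟨pow_ne_zero k hp.out.ne_zero⟩
  have hval : ∀ (u : E) (i j : ZMod (p ^ k)), u ^ (i + j).val = u ^ i.val * u ^ j.val := by
    intro u i j
    rw [ZMod.val_add, ← pow_eq_pow_mod _ (hexp u), pow_add]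
  have hmul : ∀ a b, f (a * b) = f a * f b := fun a b => by
    simp only [f, toAdd_mul, Prod.fst_add, Prod.snd_add, hval]
    exact mul_mul_mul_comm _ _ _ _
  let φf : Multiplicative (ZMod (p ^ k) × ZMod (p ^ k)) →* E := MonoidHom.mk' f hmul
  have hinj : Function.Injective φf := by
    rw [← MonoidHom.ker_eq_bot_iff, eq_bot_iff]
    intro q hq
    have hqe : x₀ ^ (Multiplicative.toAdd q).1.val * y ^ (Multiplicative.toAdd q).2.val = 1 := hq
    set i := (Multiplicative.toAdd q).1.val with hidef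
    set j := (Multiplicative.toAdd q).2.val with hjdef
    have key : ∀ n : ℕ, ∀ i j : ℕ, x₀ ^ i * y ^ j = 1 → n ≤ k → p ^ n ∣ i ∧ p ^ n ∣ j := by
      intro n
      induction n with
      | zero => exact fun i j _ _ => ⟨one_dvd _, one_dvd _⟩
      | succ n ih =>
        intro i j hij hn
        obtain ⟨⟨a, rfl⟩, ⟨b, rfl⟩⟩ := ih i j hij (by omega)
        set u := x₀ ^ a * y ^ b with hu
        have hun : u ^ p ^ n = 1 := by
          rw [hu, mul_pow, ← pow_mul, ← pow_mul, mul_comm a, mul_comm b, hij]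
        have huΦ : u ∈ frattini E := by
          by_contra hne
          have := orderOf_dvd_of_pow_eq_one hun
          rw [hord u hne, Nat.pow_dvd_pow_iff_le_right hp.out.one_lt] at this
          omega
        have hab' : p ∣ a ∧ p ∣ b := by
          have aux : ∀ {s t : E} {c d : ℕ}, closure ({s, t} : Set E) = ⊤ →
              s ^ c * t ^ d ∈ frattini E → p ∣ c := by
            intro s t c d hst hmem
            by_contra hc
            obtain ⟨m, -, hm⟩ := Nat.exists_mul_mod_eq_one_of_coprime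
              (Nat.Coprime.symm ((hp.out.coprime_iff_not_dvd).2 hc)) hp.out.one_lt
            have hs : s ∈ zpowers t ⊔ frattini E := by
              have e : s = (s ^ c * t ^ d) ^ m * (t ^ (d * m))⁻¹ * ((s ^ p) ^ (c * m / p))⁻¹ := by
                rw [mul_pow, ← pow_mul, ← pow_mul, mul_inv_cancel_right, ← pow_mul]
                conv_rhs => rw [show s ^ (c * m) = s ^ (1 + p * (c * m / p)) by
                  congr 1; conv_lhs => rw [← Nat.mod_add_div (c * m) p, hm]]
                rw [pow_add, pow_one, mul_inv_cancel_right]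
              rw [e]
              exact mul_mem (mul_mem (mem_sup_right (pow_mem hmem m))
                (mem_sup_left (inv_mem (pow_mem (mem_zpowers t) _))))
                (mem_sup_right (inv_mem (pow_mem (Lib.PFrattini.pow_mem_frattini hEp s) _)))
            have hle : closure ({s, t} : Set E) ≤ zpowers t ⊔ frattini E := (closure_le _).2 (by
              rintro q (rfl | rfl)
              exacts [hs, mem_sup_left (mem_zpowers _)])
            have ht : zpowers t = ⊤ := frattini_nongenerating (top_le_iff.1 (hst ▸ hle))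
            refine hgenΦ (u := 1) (v := t) ?_ (one_mem _)
            rw [eq_top_iff, ← ht, zpowers_le]
            exact subset_closure (Set.mem_insert_of_mem _ rfl)
          exact ⟨aux hgen huΦ, aux (s := y) (t := x₀) (c := b) (d := a)
            (by rw [Set.pair_comm]; exact hgen) (by rwa [mul_comm])⟩
        obtain ⟨⟨a', rfl⟩, ⟨b', rfl⟩⟩ := hab'
        exact ⟨⟨a', by ring⟩, ⟨b', by ring⟩⟩
    obtain ⟨h1, h2⟩ := key k i j hqe le_rfl
    rw [mem_bot]
    refine Multiplicative.toAdd.injective (Prod.ext ?_ ?_)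
    · exact (ZMod.val_eq_zero _).1 (Nat.eq_zero_of_dvd_of_lt h1 (ZMod.val_lt _))
    · exact (ZMod.val_eq_zero _).1 (Nat.eq_zero_of_dvd_of_lt h2 (ZMod.val_lt _))
  have hsurj : Function.Surjective φf := by
    have hpk : 1 < p ^ k := Nat.one_lt_pow hk0.ne' hp.out.one_lt
    haveI : Fact (1 < p ^ k) := ⟨hpk⟩
    rw [← MonoidHom.range_eq_top, eq_top_iff, ← hgen, closure_le]
    rintro q (rfl | rfl)
    · exact ⟨Multiplicative.ofAdd (1, 0), by simp [φf, f, ZMod.val_one]⟩
    · exact ⟨Multiplicative.ofAdd (0, 1), by simp [φf, f, ZMod.val_one]⟩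
  have hbij : Function.Bijective φf := ⟨hinj, hsurj⟩
  refine ⟨k, hk0, ?_, hexp, hord, ⟨(MulEquiv.ofBijective φf hbij).symm⟩⟩
  rw [← Nat.card_congr (MulEquiv.ofBijective φf hbij).toEquiv, Nat.card_congr Multiplicative.toAdd,
    Nat.card_prod, Nat.card_zmod]

/-- A homocyclic group of exponent at least `p²` is not essential for `p ≥ 5`. -/
theorem exponent_eq_one (hab : ∀ a b : E, a * b = b * a) (hrk : (frattini E).index ≤ p ^ 2)
    (h5 : 5 ≤ p) {k : ℕ} (hexp : ∀ x : E, x ^ p ^ k = 1)
    (hord : ∀ x : E, x ∉ frattini E → orderOf x = p ^ k) : k ≤ 1 := by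
  by_contra hk
  have hES := hE.1.1
  have := finite_of_le hES
  have hEp := hS.to_le hES
  obtain ⟨a, b, ha, ha1, -, -, -⟩ := exists_not_normal hS hF hE ⟨⟨hab⟩⟩
  letI : CommGroup E := { (inferInstance : Group E) with mul_comm := hab }
  set c : MulAut E := (a : MulAut E) with hc
  have hcp : c ^ p = 1 := by rw [hc, ← SubgroupClass.coe_pow, ha]; rfl
  let n : E →* E := MonoidHom.mk' (fun h => h⁻¹ * c h) fun u v => by
    show (u * v)⁻¹ * c (u * v) = u⁻¹ * c u * (v⁻¹ * c v)
    rw [map_mul, mul_inv_rev, mul_comm v⁻¹ u⁻¹, mul_mul_mul_comm]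
  have hcn : ∀ h, c h = h * n h := fun h => (mul_inv_cancel_left h (c h)).symm
  have hnc : ∀ h, n (c h) = c (n h) := fun h => by
    show (c h)⁻¹ * c (c h) = c (h⁻¹ * c h)
    rw [map_mul, map_inv]
  have hΦinv : ∀ (α : MulAut E), ∀ w ∈ frattini E, α w ∈ frattini E := fun α w hw =>
    (Subgroup.characteristic_iff_map_le.1 frattini_characteristic α) ⟨w, hw, rfl⟩
  -- `n²` lands in the Frattini subgroup
  set V := n.range ⊔ frattini E with hV
  have hVne : V ≠ ⊤ := by
    intro e
    have hsurj : Function.Surjective n :=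
      MonoidHom.range_eq_top.1 (frattini_nongenerating e)
    have hinj : Function.Injective n := Finite.injective_iff_surjective.2 hsurj
    have hP : IsPGroup p (zpowers c) := fun z => ⟨1, by
      obtain ⟨_, i, rfl⟩ := z
      refine Subtype.ext ?_
      show (c ^ i) ^ p ^ 1 = 1
      rw [pow_one, ← zpow_natCast, ← zpow_mul, mul_comm, zpow_mul, zpow_natCast, hcp, one_zpow]⟩
    have hd : p ∣ Nat.card E := by
      obtain ⟨j, hj⟩ := hEp.exists_card_eq
      rw [hj]
      refine dvd_pow_self p fun e0 => ?_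
      rw [e0, pow_zero] at hj
      have : Subsingleton E := (Nat.card_eq_one_iff_unique.1 hj).1
      exact ha1 (Subtype.ext (MulEquiv.ext fun u => Subsingleton.elim _ _))
    obtain ⟨u, hu, hu1⟩ := hP.exists_fixed_point_of_prime_dvd_card_of_fixed_point E hd
      (a := (1 : E)) fun z => map_one (z : MulAut E)
    have h1 : c u = u := hu ⟨c, mem_zpowers c⟩
    exact hu1 (hinj (by
      show n 1 = u⁻¹ * c u
      rw [h1, inv_mul_cancel, map_one]))
  have hVinv : ∀ v ∈ V, c v ∈ V := fun v hv => by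
    rw [hcn v]
    exact mul_mem hv (mem_sup_left ⟨v, rfl⟩)
  have hVrel : (frattini E).relIndex V ∣ p := by
    have h1 := relIndex_mul_index (le_sup_right : frattini E ≤ V)
    obtain ⟨i, hi⟩ := hEp.index V
    have hi0 : i ≠ 0 := fun e => hVne (index_eq_one.1 (by rw [hi, e, pow_zero]))
    rw [le_antisymm hrk (sq_le_index_frattini hS hF hE), hi,
      show p ^ i = p * p ^ (i - 1) by rw [← pow_succ', Nat.sub_add_cancel (Nat.one_le_iff_ne_zero.2 hi0)],
      pow_two, ← mul_assoc, mul_comm _ p, mul_assoc] at h1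
    exact ⟨_, (Nat.eq_of_mul_eq_mul_left hp.out.pos h1).symm⟩
  have hn2 : ∀ h, n (n h) ∈ frattini E := fun h =>
    step_trivial (W := frattini E) (V := V) le_sup_right hVrel (k := 1) (a := c)
      (by rw [pow_one]; exact hcp) (hΦinv c) hVinv (mem_sup_left ⟨h, rfl⟩)
  have hn4 : ∀ h, ∃ u, n (n (n (n h))) = u ^ (p * p) := fun h => by
    obtain ⟨u, hu⟩ := (mem_frattini_iff_pow hEp hab).1 (hn2 h)
    obtain ⟨u', hu'⟩ := (mem_frattini_iff_pow hEp hab).1 (hn2 u)
    exact ⟨u', by rw [← hu, map_pow, map_pow, ← hu', ← pow_mul]⟩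
  -- modulo `p²`-th powers
  let D : Subgroup E := (powMonoidHom (p * p) : E →* E).range
  let π := QuotientGroup.mk' D
  have hpow : ∀ (m : ℕ) (h : E), π ((c ^ m) h) = π h * π (n h) ^ m * π (n (n h)) ^ m.choose 2 *
      π (n (n (n h))) ^ m.choose 3 := by
    intro m
    induction m with
    | zero => intro h; simp
    | succ m ih =>
      intro h
      have h4 : π (n (n (n (n h)))) = 1 := by
        obtain ⟨u, hu⟩ := hn4 h
        exact (QuotientGroup.eq_one_iff _).2 ⟨u, hu.symm⟩
      rw [pow_succ, MulAut.mul_apply, hcn h, map_mul, map_mul, ih h, ih (n h), h4, one_pow, mul_one,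
        Nat.choose_succ_succ' m 1, Nat.choose_succ_succ' m 2, Nat.choose_one_right, pow_succ, pow_add,
        pow_add]
      ac_rfl
  obtain ⟨i2, hi2⟩ : p ∣ p.choose 2 := hp.out.dvd_choose_self two_ne_zero (by omega)
  obtain ⟨i3, hi3⟩ : p ∣ p.choose 3 := hp.out.dvd_choose_self three_ne_zero (by omega)
  have hΦp : ∀ w ∈ frattini E, π w ^ p = 1 := fun w hw => by
    obtain ⟨u, rfl⟩ := (mem_frattini_iff_pow hEp hab).1 hw
    rw [← map_pow, ← pow_mul]
    exact (QuotientGroup.eq_one_iff _).2 ⟨u, rfl⟩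
  -- `n` lands in the Frattini subgroup
  have hnΦ : ∀ h, n h ∈ frattini E := by
    intro h
    have e1 := hpow p h
    rw [hcp, MulAut.one_apply, hi2, hi3, pow_mul, pow_mul, hΦp _ (hn2 h), hΦp _ (hn2 (n h)),
      one_pow, one_pow, mul_one, mul_one, left_eq_mul, ← map_pow] at e1
    obtain ⟨u, hu⟩ := (QuotientGroup.eq_one_iff _).1 e1
    have hu' : u ^ (p * p) = n h ^ p := hu
    by_contra hne
    have hne' : n h * (u ^ p)⁻¹ ∉ frattini E := fun e => hne (by
      have := mul_mem e (Lib.PFrattini.pow_mem_frattini (p := p) hEp u)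
      rwa [inv_mul_cancel_right] at this)
    have h2 : (n h * (u ^ p)⁻¹) ^ p = 1 := by
      rw [mul_pow, inv_pow, ← pow_mul, hu', mul_inv_cancel]
    have h3 := orderOf_dvd_of_pow_eq_one h2
    rw [hord _ hne'] at h3
    have h4 : p ^ k ∣ p ^ 1 := by rwa [pow_one]
    rw [Nat.pow_dvd_pow_iff_le_right hp.out.one_lt] at h4
    omega
  -- hence `a` lies in the normal `p`-subgroup of automorphisms trivial modulo Frattini
  let T : Subgroup (MulAut E) :=
    { carrier := {β | β ∈ F.autGroup E ∧ ∀ x, x⁻¹ * β x ∈ frattini E}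
      one_mem' := ⟨one_mem _, fun x => by simp⟩
      mul_mem' := fun {β γ} hb hc' => ⟨(F.autGroup E).mul_mem hb.1 hc'.1, fun x => by
        have h1 := (frattini E).mul_mem (hc'.2 x) (hb.2 (γ x))
        rwa [mul_assoc, mul_inv_cancel_left] at h1⟩
      inv_mem' := fun {β} hb => ⟨(F.autGroup E).inv_mem hb.1, fun x => by
        have h1 := (frattini E).inv_mem (hb.2 (β⁻¹ x))
        rwa [MulAut.apply_inv_self, mul_inv_rev, inv_inv] at h1⟩ }
  have hT := AbelianMaximal.le_inn_of_isEssential hS hE (K := T) (fun β hb => hb.1)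
    (fun β hβ t ht => ⟨mul_mem (mul_mem hβ ht.1) (inv_mem hβ), fun x => by
      have key : x⁻¹ * (β * t * β⁻¹) x = β ((β⁻¹ x)⁻¹ * t (β⁻¹ x)) := by
        rw [map_mul, map_inv, MulAut.apply_inv_self]; rfl
      rw [key]
      exact hΦinv β _ (ht.2 _)⟩)
    (isPGroup_of_trivial_on_frattini hEp T fun β hb => hb.2)
  obtain ⟨g, hg⟩ := hT (show c ∈ T from ⟨a.2, hnΦ⟩)
  refine ha1 (Subtype.ext ?_)
  show c = 1
  rw [← hg]
  refine MulEquiv.ext fun x => ?_
  show g * x * g⁻¹ = x
  rw [mul_comm g x, mul_inv_cancel_right]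

end Cfsg.Agent.Lib.RankTwoAut
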